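import Cfsg.Agent.H466.T3.GG
import Cfsg.Agent.H691.T3.Defs
import Cfsg.Agent.Blocks.Basic

/-!
# Cuspidal characters of `GL₃(F)` (helper466)

`gl3_cusp` : an irreducible character of `GL₃(F)` without nonzero vectors fixed by the unipotent radicals of the
maximal parabolic subgroups has degree `(q - 1)² (q + 1)`.
-/

set_option autoImplicit false

open Cfsg
open scoped ComplexConjugate

namespace Cfsg.Agent.H466.T3.Cusp

open Matrix Cfsg.Agent.H691.T3 Cfsg.Agent.H466.T3.GG Cfsg.Agent.Characters.Core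

universe u

variable {F : Type u} [Field F]

/-- `um a b c` in `GL₃(F)`. -/
def uu (a b c : F) : GL (Fin 3) F := ⟨um a b c, um (-a) (-b) (a * b - c), um_inv a b c, um_inv' a b c⟩

theorem uu_coe (a b c : F) : ((uu a b c : GL (Fin 3) F) : Matrix (Fin 3) (Fin 3) F) = um a b c := rfl

theorem uu_mul (a b c a' b' c' : F) : uu a b c * uu a' b' c' = uu (a + a') (b + b') (c' + a * b' + c) :=
  Units.ext (um_mul a b c a' b' c')

theorem uu_zero : uu (0 : F) 0 0 = 1 := Units.ext um_zero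

theorem uu_inv (a b c : F) : (uu a b c)⁻¹ = uu (-a) (-b) (a * b - c) := by
  rw [inv_eq_iff_mul_eq_one, uu_mul, ← uu_zero]
  congr 1 <;> ring

theorem uu_inj {a b c a' b' c' : F} (h : uu a b c = uu a' b' c') : a = a' ∧ b = b' ∧ c = c' := by
  have h1 := congrArg (fun g : GL (Fin 3) F => (g : Matrix (Fin 3) (Fin 3) F)) h
  refine ⟨?_, ?_, ?_⟩
  · simpa [uu, um] using congrFun (congrFun h1 0) 1
  · simpa [uu, um] using congrFun (congrFun h1 1) 2
  · simpa [uu, um] using congrFun (congrFun h1 0) 2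

theorem mem_UU {g : GL (Fin 3) F} : g ∈ UU F ↔ ∃ a b c, g = uu a b c := by
  constructor
  · rintro ⟨h1, h2⟩
    refine ⟨(g : Matrix (Fin 3) (Fin 3) F) 0 1, (g : Matrix (Fin 3) (Fin 3) F) 1 2,
      (g : Matrix (Fin 3) (Fin 3) F) 0 2, Units.ext ?_⟩
    ext i j
    fin_cases i <;> fin_cases j <;> simp [uu, um, h1, h2]
  · rintro ⟨a, b, c, rfl⟩
    refine ⟨fun i => ?_, fun i j hij => ?_⟩
    · fin_cases i <;> simp [uu, um]
    · fin_cases i <;> fin_cases j <;> simp [uu, um] at hij ⊢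

/-- The unitriangular group. -/
def US (F : Type u) [Field F] : Subgroup (GL (Fin 3) F) where
  carrier := UU F
  mul_mem' := by
    intro x y hx hy
    obtain ⟨a, b, c, rfl⟩ := mem_UU.1 hx
    obtain ⟨a', b', c', rfl⟩ := mem_UU.1 hy
    rw [uu_mul]
    exact mem_UU.2 ⟨_, _, _, rfl⟩
  one_mem' := by
    rw [← uu_zero]
    exact mem_UU.2 ⟨_, _, _, rfl⟩
  inv_mem' := by
    intro x hx
    obtain ⟨a, b, c, rfl⟩ := mem_UU.1 hx
    rw [uu_inv]
    exact mem_UU.2 ⟨_, _, _, rfl⟩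

/-- `uu a b c` as an element of the unitriangular group. -/
def us (p : F × F × F) : US F := ⟨uu p.1 p.2.1 p.2.2, mem_UU.2 ⟨_, _, _, rfl⟩⟩

theorem us_bij : Function.Bijective (us : F × F × F → US F) := by
  constructor
  · rintro ⟨a, b, c⟩ ⟨a', b', c'⟩ h
    obtain ⟨h1, h2, h3⟩ := uu_inj (congrArg Subtype.val h)
    simp only at h1 h2 h3
    rw [h1, h2, h3]
  · rintro ⟨x, hx⟩
    obtain ⟨a, b, c, rfl⟩ := mem_UU.1 hx
    exact ⟨(a, b, c), rfl⟩

/-- The linear characters of the unitriangular group. -/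
noncomputable def psi (ψ : AddChar F ℂ) : US F →* ℂˣ :=
  MonoidHom.toHomUnits
    { toFun := fun u => ψ ((u : GL (Fin 3) F).1 0 1 + (u : GL (Fin 3) F).1 1 2)
      map_one' := by simp
      map_mul' := by
        intro x y
        obtain ⟨⟨a, b, c⟩, rfl⟩ := us_bij.2 x
        obtain ⟨⟨a', b', c'⟩, rfl⟩ := us_bij.2 y
        rw [← AddChar.map_add_eq_mul]
        congr 1
        simp [us, uu, um, Matrix.mul_apply, Fin.sum_univ_three]
        ring }

theorem psi_us (ψ : AddChar F ℂ) (p : F × F × F) : ((psi ψ (us p) : ℂˣ) : ℂ) = ψ (p.1 + p.2.1) := by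
  simp [psi, us, uu, um]

theorem psi_us_eq (ψ : AddChar F ℂ) {p p' : F × F × F} (h : ψ (p.1 + p.2.1) = ψ (p'.1 + p'.2.1)) :
    psi ψ (us p) = psi ψ (us p') := Units.ext (by rw [psi_us, psi_us, h])

/-- The anti-transpose in `GL₃`. -/
def tg (g : GL (Fin 3) F) : GL (Fin 3) F :=
  ⟨tm g, tm (g⁻¹ : GL (Fin 3) F), by rw [← tm_mul, ← Units.val_mul, inv_mul_cancel, Units.val_one, tm_one],
    by rw [← tm_mul, ← Units.val_mul, mul_inv_cancel, Units.val_one, tm_one]⟩

theorem tg_mul (g h : GL (Fin 3) F) : tg (g * h) = tg h * tg g := Units.ext (by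
  show tm ((g * h : GL (Fin 3) F) : Matrix (Fin 3) (Fin 3) F) = tm h.1 * tm g.1
  rw [Units.val_mul, tm_mul])

theorem tg_uu (a b c : F) : tg (uu a b c) = uu b a c := Units.ext (tm_um a b c)

theorem tm_tm (M : Matrix (Fin 3) (Fin 3) F) : tm (tm M) = M := by
  ext i j
  fin_cases i <;> fin_cases j <;> simp [tm]

theorem tg_tg (g : GL (Fin 3) F) : tg (tg g) = g := Units.ext (tm_tm _)

/-- The permutation of the unitriangular group induced by `tg`. -/
def sg : US F ≃ US F where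
  toFun u := ⟨tg u, by
    obtain ⟨⟨a, b, c⟩, rfl⟩ := us_bij.2 u
    show tg (uu a b c) ∈ UU F
    rw [tg_uu]
    exact mem_UU.2 ⟨_, _, _, rfl⟩⟩
  invFun u := ⟨tg u, by
    obtain ⟨⟨a, b, c⟩, rfl⟩ := us_bij.2 u
    show tg (uu a b c) ∈ UU F
    rw [tg_uu]
    exact mem_UU.2 ⟨_, _, _, rfl⟩⟩
  left_inv u := Subtype.ext (tg_tg _)
  right_inv u := Subtype.ext (tg_tg _)

theorem sg_us (p : F × F × F) : sg (us p) = us (p.2.1, p.1, p.2.2) := Subtype.ext (tg_uu _ _ _)

/-- A nondegenerate linear character of the unitriangular group occurs at most once in an irreducible character of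
`GL₃(F)`. -/
theorem mult_le_one [Fintype F] [DecidableEq F] [Fintype (US F)] {ψ : AddChar F ℂ} (hψ : ψ ≠ 1) {χ : GL (Fin 3) F → ℂ}
    (hχ : IsIrrCharacter (GL (Fin 3) F) χ) :
    classInner (χ ∘ (US F).subtype) (fun a => (psi ψ a : ℂ)) = 0 ∨
      classInner (χ ∘ (US F).subtype) (fun a => (psi ψ a : ℂ)) = 1 := by
  refine Cfsg.Agent.H466.T3.Gelfand.mult_le_one (US F).subtype (psi ψ) tg sg tg_mul (fun a => rfl) ?_ ?_ hχ
  · intro a
    obtain ⟨p, rfl⟩ := us_bij.2 a
    rw [sg_us]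
    apply psi_us_eq
    rw [add_comm]
  · intro g
    obtain ⟨y0, hy0⟩ := AddChar.ne_one_iff.1 hψ
    have hNd : Nd (fun x : F => ψ x = 1) := by
      intro x hx
      refine ⟨y0 / x, ?_⟩
      rw [div_mul_cancel₀ _ hx]
      exact hy0
    have hdet : (g : Matrix (Fin 3) (Fin 3) F).det ≠ 0 := by
      have := (Matrix.isUnit_iff_isUnit_det _).1 g.isUnit
      exact this.ne_zero
    rcases gd_all hNd g hdet with ⟨a, b, c, a', b', c', h1, h2⟩ | ⟨a, b, c, a', b', c', h1, h2⟩
    · left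
      refine ⟨us (a, b, c), us (a', b', c'), Units.ext h1, ?_⟩
      apply Units.ext
      rw [Units.val_mul, psi_us, psi_us, ← AddChar.map_add_eq_mul, Units.val_one]
      show ψ (a + b + (a' + b')) = 1
      rw [h2, AddChar.map_zero_eq_one]
    · right
      refine ⟨us (a, b, c), us (a', b', c'), Units.ext h1, ?_⟩
      intro h3
      apply h2
      have h4 := congrArg (fun x : ℂˣ => (x : ℂ)) h3
      simp only [psi_us] at h4
      show ψ (a + b - (a' + b')) = 1
      rw [AddChar.map_sub_eq_div, h4, div_self]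
      rw [← psi_us ψ (a', b', c')]
      exact Units.ne_zero _

/-! ### The values on the unitriangular group -/

theorem conj_of {χ : GL (Fin 3) F → ℂ} (hχ : IsIrrCharacter (GL (Fin 3) F) χ) {x y : GL (Fin 3) F}
    (g : Matrix (Fin 3) (Fin 3) F) (hg : g.det ≠ 0) (h : g * (x : Matrix (Fin 3) (Fin 3) F) = y * g) : χ x = χ y := by
  apply classFunction_apply_eq (isIrr_isClassFunction hχ)
  rw [isConj_iff]
  refine ⟨Matrix.GeneralLinearGroup.mkOfDetNeZero g hg, ?_⟩
  rw [mul_inv_eq_iff_eq_mul]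
  exact Units.ext h

theorem chi_reg {χ : GL (Fin 3) F → ℂ} (hχ : IsIrrCharacter (GL (Fin 3) F) χ) {a b : F} (c : F) (ha : a ≠ 0)
    (hb : b ≠ 0) : χ (uu a b c) = χ (uu 1 1 0) := by
  refine conj_of hχ !![1, 0, 0; 0, a, c; 0, 0, a * b] ?_ ?_
  · rw [Matrix.det_fin_three]
    simp [ha, hb]
  · ext i j
    fin_cases i <;> fin_cases j <;> simp [uu, um, Matrix.mul_apply, Fin.sum_univ_three]
    ring

theorem chi_tr {χ : GL (Fin 3) F → ℂ} (hχ : IsIrrCharacter (GL (Fin 3) F) χ) {a b c : F} (hab : a * b = 0)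
    (h : ¬ (a = 0 ∧ b = 0 ∧ c = 0)) : χ (uu a b c) = χ (uu 0 0 1) := by
  rcases mul_eq_zero.1 hab with rfl | rfl
  · by_cases hc : c = 0
    · subst hc
      have hb : b ≠ 0 := fun hb => h ⟨rfl, hb, rfl⟩
      refine conj_of hχ !![0, b⁻¹, 0; 1, 0, 0; 0, 0, 1] ?_ ?_
      · rw [Matrix.det_fin_three]
        simp [hb]
      · ext i j
        fin_cases i <;> fin_cases j <;> simp [uu, um, Matrix.mul_apply, Fin.sum_univ_three, hb]
    · refine conj_of hχ !![c⁻¹, 0, 0; -b, c, 0; 0, 0, 1] ?_ ?_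
      · rw [Matrix.det_fin_three]
        simp [hc]
      · ext i j
        fin_cases i <;> fin_cases j <;> simp [uu, um, Matrix.mul_apply, Fin.sum_univ_three, hc]
        ring
  · by_cases hc : c = 0
    · subst hc
      have ha : a ≠ 0 := fun ha => h ⟨ha, rfl, rfl⟩
      refine conj_of hχ !![1, 0, 0; 0, 0, 1; 0, a, 0] ?_ ?_
      · rw [Matrix.det_fin_three]
        simp [ha]
      · ext i j
        fin_cases i <;> fin_cases j <;> simp [uu, um, Matrix.mul_apply, Fin.sum_univ_three]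
    · refine conj_of hχ !![1, 0, 0; 0, 1, 0; 0, a, c] ?_ ?_
      · rw [Matrix.det_fin_three]
        simp [hc]
      · ext i j
        fin_cases i <;> fin_cases j <;> simp [uu, um, Matrix.mul_apply, Fin.sum_univ_three]

theorem sum_QA [Fintype F] (χ : GL (Fin 3) F → ℂ) : ∑ᶠ u ∈ QA F, χ u = ∑ b : F, ∑ c : F, χ (uu 0 b c) := by
  have h1 : QA F = Set.range (fun p : F × F => uu 0 p.1 p.2) := by
    ext g
    constructor
    · rintro ⟨h1, h2⟩
      obtain ⟨a, b, c, rfl⟩ := mem_UU.1 h1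
      have : a = 0 := by simpa [uu, um] using h2
      subst this
      exact ⟨(b, c), rfl⟩
    · rintro ⟨⟨b, c⟩, rfl⟩
      exact ⟨mem_UU.2 ⟨_, _, _, rfl⟩, by simp [uu, um]⟩
  rw [h1, finsum_mem_range, finsum_eq_sum_of_fintype, Fintype.sum_prod_type]
  rintro ⟨b, c⟩ ⟨b', c'⟩ h
  obtain ⟨_, h2, h3⟩ := uu_inj h
  simp only at h2 h3
  rw [h2, h3]

theorem sum_U [Fintype F] {χ : GL (Fin 3) F → ℂ} (hχ : IsIrrCharacter (GL (Fin 3) F) χ)
    (h : ∑ b : F, ∑ c : F, χ (uu 0 b c) = 0) : ∑ a : F, ∑ b : F, ∑ c : F, χ (uu a b c) = 0 := by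
  classical
  obtain ⟨n, ρ, hρ, rfl⟩ := hχ
  have hq : (Fintype.card F : ℂ) ≠ 0 := Nat.cast_ne_zero.2 Fintype.card_ne_zero
  set E : Module.End ℂ (Fin n → ℂ) := ∑ b : F, ∑ c : F, ρ (uu 0 b c) with hE
  have h1 : ∀ b c : F, ρ (uu 0 b c) * E = E := by
    intro b c
    rw [hE, Finset.mul_sum]
    refine Fintype.sum_equiv (Equiv.addLeft b) _ _ fun b' => ?_
    rw [Finset.mul_sum]
    refine Fintype.sum_equiv (Equiv.addLeft c) _ _ fun c' => ?_
    rw [← map_mul, uu_mul]
    congr 2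
    · ring
    · simp only [Equiv.coe_addLeft]
      ring
  have h2 : E * E = ((Fintype.card F : ℂ) ^ 2) • E := by
    conv_lhs => rw [hE]
    rw [← hE, Finset.sum_mul]
    have h3 : ∀ b : F, (∑ c : F, ρ (uu 0 b c)) * E = (Fintype.card F : ℂ) • E := by
      intro b
      rw [Finset.sum_mul, Finset.sum_congr rfl fun c _ => h1 b c, Finset.sum_const, Finset.card_univ,
        ← Nat.cast_smul_eq_nsmul ℂ]
    rw [Finset.sum_congr rfl fun b _ => h3 b, Finset.sum_const, Finset.card_univ, ← Nat.cast_smul_eq_nsmul ℂ,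
      smul_smul, ← sq]
  have h4 : IsIdempotentElem (((Fintype.card F : ℂ) ^ 2)⁻¹ • E) := by
    unfold IsIdempotentElem
    rw [smul_mul_smul_comm, h2, smul_smul, mul_assoc, inv_mul_cancel₀ (pow_ne_zero 2 hq), mul_one]
  have h5 : LinearMap.trace ℂ (Fin n → ℂ) E = 0 := by
    rw [hE, map_sum, ← h]
    refine Finset.sum_congr rfl fun b _ => ?_
    rw [map_sum]
    rfl
  have h6 : E = 0 := by
    have h7 := LinearMap.IsIdempotentElem.eq_zero_of_trace_eq_zero h4 (by rw [map_smul, h5, smul_zero])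
    exact (smul_eq_zero.1 h7).resolve_left (inv_ne_zero (pow_ne_zero 2 hq))
  have h8 : ∑ a : F, ∑ b : F, ∑ c : F, ρ (uu a b c) = 0 := by
    refine Finset.sum_eq_zero fun a _ => ?_
    have h9 : ∑ b : F, ∑ c : F, ρ (uu a b c) = ρ (uu a 0 0) * E := by
      rw [hE, Finset.mul_sum]
      refine Finset.sum_congr rfl fun b _ => ?_
      rw [Finset.mul_sum]
      symm
      refine Fintype.sum_equiv (Equiv.addRight (a * b)) _ _ fun c => ?_
      rw [← map_mul, uu_mul]
      congr 2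
      · ring
      · simp
      · simp
    rw [h9, h6, mul_zero]
  have h10 := congrArg (LinearMap.trace ℂ (Fin n → ℂ)) h8
  rw [map_zero, map_sum] at h10
  rw [← h10]
  refine Finset.sum_congr rfl fun a _ => ?_
  rw [map_sum]
  refine Finset.sum_congr rfl fun b _ => ?_
  rw [map_sum]
  rfl

theorem chi_eq [DecidableEq F] {χ : GL (Fin 3) F → ℂ} (hχ : IsIrrCharacter (GL (Fin 3) F) χ) (a b c : F) :
    χ (uu a b c) = χ (uu 0 0 1) + (if a = 0 then 1 else 0) * (if b = 0 then 1 else 0) * (if c = 0 then 1 else 0) *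
      (χ 1 - χ (uu 0 0 1)) + (1 - (if a = 0 then 1 else 0)) * (1 - (if b = 0 then 1 else 0)) *
      (χ (uu 1 1 0) - χ (uu 0 0 1)) := by
  by_cases ha : a = 0
  · by_cases hb : b = 0
    · by_cases hc : c = 0
      · subst ha hb hc
        rw [uu_zero]
        simp
      · rw [chi_tr hχ (by rw [ha, zero_mul]) (fun h => hc h.2.2)]
        simp [ha, hb, hc]
    · rw [chi_tr hχ (by rw [ha, zero_mul]) (fun h => hb h.2.1)]
      simp [ha, hb]
  · by_cases hb : b = 0
    · rw [chi_tr hχ (by rw [hb, mul_zero]) (fun h => ha h.1)]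
      simp [ha, hb]
    · rw [chi_reg hχ c ha hb]
      simp [ha, hb]

theorem sum_w [Fintype F] {χ : GL (Fin 3) F → ℂ} (hχ : IsIrrCharacter (GL (Fin 3) F) χ) (w : F → ℂ)
    (hw : w 0 = 1) : ∑ a : F, ∑ b : F, ∑ c : F, χ (uu a b c) * (w a * w b) =
      χ (uu 0 0 1) * Fintype.card F * (∑ a, w a) ^ 2 + (χ 1 - χ (uu 0 0 1)) +
        Fintype.card F * (χ (uu 1 1 0) - χ (uu 0 0 1)) * ((∑ a, w a) - 1) ^ 2 := by
  classical
  set t := χ (uu 0 0 1) with ht
  set r := χ (uu 1 1 0) with hr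
  set d := χ 1 with hd
  set W := ∑ a, w a with hW
  have i0 : ∑ a : F, (if a = 0 then (1 : ℂ) else 0) = 1 := by simp
  have iw : ∑ a : F, (if a = 0 then (1 : ℂ) else 0) * w a = 1 := by simp [hw]
  have jw : ∑ a : F, (1 - (if a = 0 then (1 : ℂ) else 0)) * w a = W - 1 := by
    simp_rw [sub_mul, one_mul]
    rw [Finset.sum_sub_distrib, iw]
  have h1 : ∀ a b : F, ∑ c : F, χ (uu a b c) * (w a * w b) =
      (t * Fintype.card F) * (w a * w b) +
      (d - t) * (((if a = 0 then 1 else 0) * w a) * ((if b = 0 then 1 else 0) * w b)) +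
      (Fintype.card F * (r - t)) * (((1 - (if a = 0 then (1 : ℂ) else 0)) * w a) *
        ((1 - (if b = 0 then (1 : ℂ) else 0)) * w b)) := by
    intro a b
    have h2 : ∀ c : F, χ (uu a b c) * (w a * w b) = t * (w a * w b) +
        (d - t) * (((if a = 0 then 1 else 0) * w a) * ((if b = 0 then 1 else 0) * w b)) *
          (if c = 0 then 1 else 0) +
        (r - t) * (((1 - (if a = 0 then (1 : ℂ) else 0)) * w a) * ((1 - (if b = 0 then (1 : ℂ) else 0)) * w b)) := by
      intro c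
      rw [chi_eq hχ]
      ring
    rw [Finset.sum_congr rfl fun c _ => h2 c, Finset.sum_add_distrib, Finset.sum_add_distrib,
      Finset.sum_const, Finset.sum_const, Finset.card_univ, nsmul_eq_mul, nsmul_eq_mul, ← Finset.mul_sum, i0]
    ring
  rw [Finset.sum_congr rfl fun a _ => Finset.sum_congr rfl fun b _ => h1 a b]
  have h3 : ∀ (k : ℂ) (f : F → ℂ), ∑ a : F, ∑ b : F, k * (f a * f b) = k * (∑ a, f a) ^ 2 := by
    intro k f
    rw [sq, Finset.sum_mul_sum, Finset.mul_sum]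
    refine Finset.sum_congr rfl fun a _ => ?_
    rw [Finset.mul_sum]
  simp_rw [Finset.sum_add_distrib]
  rw [h3, h3 _ (fun a => (if a = 0 then 1 else 0) * w a), h3 _ (fun a => (1 - (if a = 0 then (1 : ℂ) else 0)) * w a),
    iw, jw]
  ring

/-- **Cuspidal characters of `GL₃(q)` have degree `(q - 1)² (q + 1)`.** -/
theorem cusp {F : Type u} [Field F] [Fintype F] {χ : GL (Fin 3) F → ℂ} (hχ : IsIrrCharacter (GL (Fin 3) F) χ)
    (hA : ∑ᶠ u ∈ QA F, χ u = 0) :
    charDegree χ = (Fintype.card F - 1) ^ 2 * (Fintype.card F + 1) := by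
  classical
  have : Fintype (US F) := Fintype.ofFinite _
  set ψ := AddChar.FiniteField.primitiveChar_to_Complex F with hψdef
  have hprim := AddChar.FiniteField.primitiveChar_to_Complex_isPrimitive F
  have hψ : ψ ≠ 1 := by
    intro h
    apply hprim (one_ne_zero : (1 : F) ≠ 0)
    rw [← hψdef, h]
    ext x
    simp
  rw [sum_QA] at hA
  -- the three equations
  have e1 : χ (uu 0 0 1) * Fintype.card F ^ 2 + (χ 1 - χ (uu 0 0 1)) = 0 := by
    rw [← hA]
    have h1 : ∀ b : F, ∑ c : F, χ (uu 0 b c) = χ (uu 0 0 1) * Fintype.card F +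
        (if b = 0 then 1 else 0) * (χ 1 - χ (uu 0 0 1)) := by
      intro b
      have h2 : ∀ c : F, χ (uu 0 b c) = χ (uu 0 0 1) +
          ((if b = 0 then 1 else 0) * (χ 1 - χ (uu 0 0 1))) * (if c = 0 then 1 else 0) := by
        intro c
        rw [chi_eq hχ]
        simp
        try ring
      rw [Finset.sum_congr rfl fun c _ => h2 c, Finset.sum_add_distrib, Finset.sum_const, Finset.card_univ,
        nsmul_eq_mul, ← Finset.mul_sum]
      simp
      try ring
    rw [Finset.sum_congr rfl fun b _ => h1 b, Finset.sum_add_distrib, ← Finset.sum_mul,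
      Finset.sum_const, Finset.card_univ, nsmul_eq_mul]
    simp
    ring
  have e2 := sum_w hχ (fun _ => 1) rfl
  simp only [mul_one] at e2
  rw [sum_U hχ hA] at e2
  rw [Finset.sum_const, Finset.card_univ, nsmul_eq_mul, mul_one] at e2
  have e3 := sum_w hχ (fun x => conj (ψ x)) (by simp)
  have hsum : ∑ a : F, conj (ψ a) = 0 := by
    rw [← map_sum, AddChar.sum_eq_zero_of_ne_one hψ, map_zero]
  rw [hsum] at e3
  -- the multiplicity
  have hm := mult_le_one hψ hχ
  have e4 : classInner (χ ∘ (US F).subtype) (fun a => (psi ψ a : ℂ)) * Fintype.card F ^ 3 =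
      (χ 1 - χ (uu 0 0 1)) + Fintype.card F * (χ (uu 1 1 0) - χ (uu 0 0 1)) := by
    have hcard : Nat.card (US F) = Fintype.card F ^ 3 := by
      rw [← Nat.card_congr (Equiv.ofBijective _ (us_bij (F := F))), Nat.card_prod, Nat.card_prod, Nat.card_eq_fintype_card]
      ring
    have hq : (Fintype.card F : ℂ) ≠ 0 := Nat.cast_ne_zero.2 Fintype.card_ne_zero
    rw [classInner_def, hcard]
    have h5 : ∑ g : US F, (χ ∘ (US F).subtype) g * conj ((psi ψ g : ℂˣ) : ℂ) =
        ∑ a : F, ∑ b : F, ∑ c : F, χ (uu a b c) * (conj (ψ a) * conj (ψ b)) := by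
      rw [← Fintype.sum_bijective us us_bij (fun p : F × F × F => χ (uu p.1 p.2.1 p.2.2) *
        (conj (ψ p.1) * conj (ψ p.2.1))) (fun g : US F => (χ ∘ (US F).subtype) g * conj ((psi ψ g : ℂˣ) : ℂ)) ?_]
      · rw [Fintype.sum_prod_type]
        refine Finset.sum_congr rfl fun a _ => ?_
        rw [Fintype.sum_prod_type]
      · intro p
        rw [psi_us, AddChar.map_add_eq_mul, map_mul]
        rfl
    rw [h5, e3]
    push_cast
    field_simp
    ring
  rw [Cfsg.Agent.Blocks.Basic.irr_one_eq_charDegree hχ] at e1 e2 e4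
  set d := charDegree χ with hd
  set t := χ (uu 0 0 1)
  set r := χ (uu 1 1 0)
  set m := classInner (χ ∘ (US F).subtype) (fun a => (psi ψ a : ℂ)) with hmdef
  have hpos : 0 < d := Cfsg.Agent.Blocks.Basic.charDegree_pos hχ
  obtain ⟨k, hk⟩ : ∃ k, Fintype.card F = k + 1 := ⟨Fintype.card F - 1, by have := Fintype.card_pos (α := F); omega⟩
  have hk1 : 1 ≤ k := by
    have := Fintype.one_lt_card (α := F)
    omega
  rw [hk] at e1 e2 e4 ⊢
  push_cast at e1 e2 e4
  have hk0 : (k : ℂ) ≠ 0 := by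
    have : k ≠ 0 := by omega
    exact_mod_cast this
  have hq0 : (k : ℂ) + 1 ≠ 0 := by
    have : k + 1 ≠ 0 := by omega
    exact_mod_cast this
  -- `r - t = m q² + q t`
  have f1 : r - t = m * (k + 1) ^ 2 + (k + 1) * t := by
    apply mul_left_cancel₀ hq0
    linear_combination -e4 - e1
  have f2 : t * (k + 1) + m * (k + 1) * k = 0 := by
    apply mul_left_cancel₀ (mul_ne_zero (pow_ne_zero 2 hq0) hk0)
    have : r = t + m * (k + 1) ^ 2 + (k + 1) * t := by linear_combination f1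
    rw [this] at e2
    linear_combination -e2 - e1
  have f3 : t = - m * k := by
    apply mul_left_cancel₀ hq0
    linear_combination f2
  have f4 : (d : ℂ) = m * (k ^ 2 * (k + 2)) := by
    rw [f3] at e1
    linear_combination e1
  rcases hm with hm | hm
  · rw [hm, zero_mul] at f4
    have : d = 0 := by exact_mod_cast f4
    omega
  · rw [hm, one_mul] at f4
    have : d = k ^ 2 * (k + 2) := by exact_mod_cast f4
    rw [this, Nat.add_sub_cancel]

theorem gl3_cusp {F : Type} [Field F] [Fintype F] {χ : GL (Fin 3) F → ℂ} (hχ : IsIrrCharacter (GL (Fin 3) F) χ)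
    (hA : ∑ᶠ u ∈ QA F, χ u = 0) (hB : ∑ᶠ u ∈ QB F, χ u = 0) :
    charDegree χ = (Fintype.card F - 1) ^ 2 * (Fintype.card F + 1) := cusp hχ hA

end Cfsg.Agent.H466.T3.Cusp
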