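import Cfsg.Agent.H466.T3.Gelfand

/-!
# The Gelfand-Graev character of `GL₃(F)` is multiplicity free (helper466)

`mult` : a nondegenerate linear character of the unitriangular group occurs at most once in the restriction of
an irreducible character of `GL₃(F)`.
-/

set_option autoImplicit false

open Cfsg

namespace Cfsg.Agent.H466.T3.GG

open Matrix

universe u

variable {F : Type u} [Field F]

/-- The upper unitriangular matrices. -/
def um (a b c : F) : Matrix (Fin 3) (Fin 3) F := !![1, a, c; 0, 1, b; 0, 0, 1]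

/-- The anti-transpose. -/
def tm (M : Matrix (Fin 3) (Fin 3) F) : Matrix (Fin 3) (Fin 3) F :=
  !![M 2 2, M 1 2, M 0 2; M 2 1, M 1 1, M 0 1; M 2 0, M 1 0, M 0 0]

theorem um_mul (a b c a' b' c' : F) : um a b c * um a' b' c' = um (a + a') (b + b') (c' + a * b' + c) := by
  ext i j
  fin_cases i <;> fin_cases j <;> simp [um, Matrix.mul_apply, Fin.sum_univ_three] <;> ring

theorem um_zero : um (0 : F) 0 0 = 1 := by
  ext i j
  fin_cases i <;> fin_cases j <;> simp [um]

theorem um_inv (a b c : F) : um a b c * um (-a) (-b) (a * b - c) = 1 := by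
  rw [um_mul, ← um_zero]
  congr 1 <;> ring

theorem um_inv' (a b c : F) : um (-a) (-b) (a * b - c) * um a b c = 1 := by
  rw [um_mul, ← um_zero]
  congr 1 <;> ring

theorem tm_mul (M N : Matrix (Fin 3) (Fin 3) F) : tm (M * N) = tm N * tm M := by
  ext i j
  fin_cases i <;> fin_cases j <;> simp [tm, Matrix.mul_apply, Fin.sum_univ_three] <;> ring

theorem tm_one : tm (1 : Matrix (Fin 3) (Fin 3) F) = 1 := by
  ext i j
  fin_cases i <;> fin_cases j <;> simp [tm]

theorem tm_um (a b c : F) : tm (um a b c) = um b a c := by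
  ext i j
  fin_cases i <;> fin_cases j <;> simp [tm, um]

/-- The property of the double cosets needed in Gelfand's trick. -/
def Gd (f : F → Prop) (M : Matrix (Fin 3) (Fin 3) F) : Prop :=
  (∃ a b c a' b' c', tm M = um a b c * M * um a' b' c' ∧ a + b + (a' + b') = 0) ∨
    (∃ a b c a' b' c', um a b c * M = M * um a' b' c' ∧ ¬ f (a + b - (a' + b')))

theorem Gd.of (f : F → Prop) {M : Matrix (Fin 3) (Fin 3) F} (x y z x' y' z' : F)
    (h : Gd f (um x y z * M * um x' y' z')) : Gd f M := by
  rcases h with ⟨a, b, c, a', b', c', h1, h2⟩ | ⟨a, b, c, a', b', c', h1, h2⟩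
  · left
    rw [tm_mul, tm_mul, tm_um, tm_um] at h1
    have e1 : tm M = um (-y') (-x') (y' * x' - z') * (um y' x' z' * (tm M * um y x z)) * um (-y) (-x) (y * x - z) := by
      rw [← Matrix.mul_assoc (um (-y') _ _), um_inv', Matrix.one_mul, Matrix.mul_assoc, um_inv, Matrix.mul_one]
    rw [h1] at e1
    have e2 : tm M = (um (-y') (-x') (y' * x' - z') * um a b c * um x y z) * M *
        (um x' y' z' * um a' b' c' * um (-y) (-x) (y * x - z)) := by
      rw [e1]
      simp only [Matrix.mul_assoc]
    rw [um_mul, um_mul, um_mul, um_mul] at e2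
    exact ⟨_, _, _, _, _, _, e2, by linear_combination h2⟩
  · right
    have e1 : um (-x) (-y) (x * y - z) * (um a b c * (um x y z * M * um x' y' z')) * um (-x') (-y') (x' * y' - z') =
        um (-x) (-y) (x * y - z) * (um x y z * M * um x' y' z' * um a' b' c') * um (-x') (-y') (x' * y' - z') := by
      rw [h1]
    have e2 : um (-x) (-y) (x * y - z) * (um a b c * (um x y z * M * um x' y' z')) * um (-x') (-y') (x' * y' - z') =
        (um (-x) (-y) (x * y - z) * um a b c * um x y z) * M := by
      simp only [Matrix.mul_assoc, um_inv, Matrix.mul_one]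
    have e3 : um (-x) (-y) (x * y - z) * (um x y z * M * um x' y' z' * um a' b' c') * um (-x') (-y') (x' * y' - z') =
        M * (um x' y' z' * um a' b' c' * um (-x') (-y') (x' * y' - z')) := by
      rw [Matrix.mul_assoc (um x y z), Matrix.mul_assoc (um x y z), ← Matrix.mul_assoc (um (-x) _ _), um_inv',
        Matrix.one_mul]
      simp only [Matrix.mul_assoc]
    rw [e2, e3, um_mul, um_mul, um_mul, um_mul] at e1
    refine ⟨_, _, _, _, _, _, e1, ?_⟩
    intro h3
    apply h2
    convert h3 using 1
    ring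

/-! ### The six monomial cases -/

/-- `f` is not identically true on multiples. -/
def Nd (f : F → Prop) : Prop := ∀ x : F, x ≠ 0 → ∃ y, ¬ f (y * x)

theorem gd_mono_w0 (f : F → Prop) (x y z : F) : Gd f !![0, 0, x; 0, y, 0; z, 0, 0] := by
  left
  refine ⟨0, 0, 0, 0, 0, 0, ?_, by ring⟩
  ext i j
  fin_cases i <;> fin_cases j <;> simp [um, tm, Matrix.mul_apply, Fin.sum_univ_three]

theorem gd_mono_1 {f : F → Prop} (hf : Nd f) {x y z : F} (hx : x ≠ 0) (hy : y ≠ 0) (hz : z ≠ 0) :
    Gd f !![x, 0, 0; 0, y, 0; 0, 0, z] := by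
  by_cases h1 : x = y
  · by_cases h2 : y = z
    · left
      refine ⟨0, 0, 0, 0, 0, 0, ?_, by ring⟩
      ext i j
      fin_cases i <;> fin_cases j <;> simp [um, tm, Matrix.mul_apply, Fin.sum_univ_three, h1, h2]
    · obtain ⟨t, ht⟩ := hf (y - z) (sub_ne_zero.2 h2)
      right
      refine ⟨0, t * y, 0, 0, t * z, 0, ?_, ?_⟩
      · ext i j
        fin_cases i <;> fin_cases j <;> simp [um, Matrix.mul_apply, Fin.sum_univ_three]
        ring
      · convert ht using 2
        ring
  · obtain ⟨t, ht⟩ := hf (x - y) (sub_ne_zero.2 h1)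
    right
    refine ⟨t * x, 0, 0, t * y, 0, 0, ?_, ?_⟩
    · ext i j
      fin_cases i <;> fin_cases j <;> simp [um, Matrix.mul_apply, Fin.sum_univ_three]
      ring
    · convert ht using 2
      ring

theorem gd_mono_s1 {f : F → Prop} (hf : Nd f) {x y z : F} (hx : x ≠ 0) (hy : y ≠ 0) (hz : z ≠ 0) :
    Gd f !![0, x, 0; y, 0, 0; 0, 0, z] := by
  obtain ⟨t, ht⟩ := hf (-x) (neg_ne_zero.2 hx)
  right
  -- `(1 + c e₁₃) n = n (1 + b e₂₃)`, `c z = x b`
  refine ⟨0, 0, t * x * x / z, 0, t * x, 0, ?_, ?_⟩
  · ext i j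
    fin_cases i <;> fin_cases j <;> simp [um, Matrix.mul_apply, Fin.sum_univ_three]
    field_simp
  · convert ht using 2
    ring

theorem gd_mono_s2 {f : F → Prop} (hf : Nd f) {x y z : F} (hx : x ≠ 0) (hy : y ≠ 0) (hz : z ≠ 0) :
    Gd f !![x, 0, 0; 0, 0, y; 0, z, 0] := by
  obtain ⟨t, ht⟩ := hf (-x) (neg_ne_zero.2 hx)
  right
  -- `(1 + c e₁₃) n = n (1 + a e₁₂)`, `c z = x a`
  refine ⟨0, 0, x * (t * x) / z, t * x, 0, 0, ?_, ?_⟩
  · ext i j
    fin_cases i <;> fin_cases j <;> simp [um, Matrix.mul_apply, Fin.sum_univ_three]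
    field_simp
  · convert ht using 2
    ring

theorem gd_mono_c1 {f : F → Prop} (hf : Nd f) {x y z : F} (hx : x ≠ 0) (hy : y ≠ 0) (hz : z ≠ 0) :
    Gd f !![0, 0, x; y, 0, 0; 0, z, 0] := by
  by_cases h1 : y = z
  · left
    refine ⟨0, 0, 0, 0, 0, 0, ?_, by ring⟩
    ext i j
    fin_cases i <;> fin_cases j <;> simp [um, tm, Matrix.mul_apply, Fin.sum_univ_three, h1]
  · obtain ⟨t, ht⟩ := hf (y - z) (sub_ne_zero.2 h1)
    right
    -- `(1 + b e₂₃) n = n (1 + a e₁₂)`, `b z = y a`
    refine ⟨0, t * y, 0, t * z, 0, 0, ?_, ?_⟩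
    · ext i j
      fin_cases i <;> fin_cases j <;> simp [um, Matrix.mul_apply, Fin.sum_univ_three]
      ring
    · convert ht using 2
      ring

theorem gd_mono_c2 {f : F → Prop} (hf : Nd f) {x y z : F} (hx : x ≠ 0) (hy : y ≠ 0) (hz : z ≠ 0) :
    Gd f !![0, x, 0; 0, 0, y; z, 0, 0] := by
  by_cases h1 : x = y
  · left
    refine ⟨0, 0, 0, 0, 0, 0, ?_, by ring⟩
    ext i j
    fin_cases i <;> fin_cases j <;> simp [um, tm, Matrix.mul_apply, Fin.sum_univ_three, h1]
  · obtain ⟨t, ht⟩ := hf (x - y) (sub_ne_zero.2 h1)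
    right
    -- `(1 + a e₁₂) n = n (1 + b e₂₃)`, `a y = x b`
    refine ⟨t * x, 0, 0, 0, t * y, 0, ?_, ?_⟩
    · ext i j
      fin_cases i <;> fin_cases j <;> simp [um, Matrix.mul_apply, Fin.sum_univ_three]
      ring
    · convert ht using 2
      ring

/-! ### Reduction to the monomial cases -/

theorem gd_all {f : F → Prop} (hf : Nd f) (M : Matrix (Fin 3) (Fin 3) F) (hM : M.det ≠ 0) : Gd f M := by
  obtain ⟨a, b, c, d, e, g, h, i, j, rfl⟩ : ∃ a b c d e g h i j : F, M = !![a, b, c; d, e, g; h, i, j] :=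
    ⟨M 0 0, M 0 1, M 0 2, M 1 0, M 1 1, M 1 2, M 2 0, M 2 1, M 2 2, by
      ext i j
      fin_cases i <;> fin_cases j <;> rfl⟩
  rw [Matrix.det_fin_three] at hM
  simp at hM
  by_cases hh : h = 0
  · subst hh
    by_cases hi : i = 0
    · subst hi
      have hj : j ≠ 0 := by
        rintro rfl
        apply hM
        ring
      -- clear the last column
      apply Gd.of f 0 (-(g / j)) (-(c / j)) 0 0 0
      have e1 : um 0 (-(g / j)) (-(c / j)) * !![a, b, c; d, e, g; 0, 0, j] * um 0 0 0 =
          !![a, b, 0; d, e, 0; 0, 0, j] := by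
        rw [um_zero, Matrix.mul_one]
        ext s t
        fin_cases s <;> fin_cases t <;> simp [um, Matrix.mul_apply, Fin.sum_univ_three] <;> field_simp <;> ring
      rw [e1]
      by_cases hd : d = 0
      · subst hd
        have ha : a ≠ 0 := by
          rintro rfl
          apply hM
          ring
        have he : e ≠ 0 := by
          rintro rfl
          apply hM
          ring
        apply Gd.of f (-(b / e)) 0 0 0 0 0
        have e2 : um (-(b / e)) 0 0 * !![a, b, 0; 0, e, 0; 0, 0, j] * um 0 0 0 = !![a, 0, 0; 0, e, 0; 0, 0, j] := by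
          rw [um_zero, Matrix.mul_one]
          ext s t
          fin_cases s <;> fin_cases t <;> simp [um, Matrix.mul_apply, Fin.sum_univ_three] <;> field_simp <;> ring
        rw [e2]
        exact gd_mono_1 hf ha he hj
      · apply Gd.of f (-(a / d)) 0 0 (-(e / d)) 0 0
        have e2 : um (-(a / d)) 0 0 * !![a, b, 0; d, e, 0; 0, 0, j] * um (-(e / d)) 0 0 =
            !![0, b - a * e / d, 0; d, 0, 0; 0, 0, j] := by
          ext s t
          fin_cases s <;> fin_cases t <;> simp [um, Matrix.mul_apply, Fin.sum_univ_three] <;> field_simp <;> ring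
        rw [e2]
        refine gd_mono_s1 hf ?_ hd hj
        intro h3
        apply hM
        field_simp at h3
        linear_combination -j * h3
    · -- `i ≠ 0`
      apply Gd.of f 0 (-(e / i)) (-(b / i)) 0 (-(j / i)) 0
      have e1 : um 0 (-(e / i)) (-(b / i)) * !![a, b, c; d, e, g; 0, i, j] * um 0 (-(j / i)) 0 =
          !![a, 0, c - b * j / i; d, 0, g - e * j / i; 0, i, 0] := by
        ext s t
        fin_cases s <;> fin_cases t <;> simp [um, Matrix.mul_apply, Fin.sum_univ_three] <;> field_simp <;> ring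
      rw [e1]
      by_cases hd : d = 0
      · subst hd
        have ha : a ≠ 0 := by
          rintro rfl
          apply hM
          ring
        have hg : g - e * j / i ≠ 0 := by
          intro h3
          apply hM
          field_simp at h3
          linear_combination -a * h3
        set g' := g - e * j / i with hg'
        set c' := c - b * j / i with hc'
        apply Gd.of f (-(c' / g')) 0 0 0 0 0
        have e2 : um (-(c' / g')) 0 0 * !![a, 0, c'; 0, 0, g'; 0, i, 0] * um 0 0 0 = !![a, 0, 0; 0, 0, g'; 0, i, 0] := by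
          rw [um_zero, Matrix.mul_one]
          ext s t
          fin_cases s <;> fin_cases t <;> simp [um, Matrix.mul_apply, Fin.sum_univ_three, hg]
        rw [e2]
        exact gd_mono_s2 hf ha hg hi
      · set g' := g - e * j / i with hg'
        set c' := c - b * j / i with hc'
        apply Gd.of f (-(a / d)) 0 0 0 0 (-(g' / d))
        have e2 : um (-(a / d)) 0 0 * !![a, 0, c'; d, 0, g'; 0, i, 0] * um 0 0 (-(g' / d)) =
            !![0, 0, c' - a * g' / d; d, 0, 0; 0, i, 0] := by
          ext s t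
          fin_cases s <;> fin_cases t <;> simp [um, Matrix.mul_apply, Fin.sum_univ_three] <;> field_simp <;> ring
        rw [e2]
        refine gd_mono_c1 hf ?_ hd hi
        intro h3
        apply hM
        rw [hg', hc'] at h3
        field_simp at h3
        linear_combination h3
  · -- `h ≠ 0`
    apply Gd.of f 0 (-(d / h)) (-(a / h)) (-(i / h)) 0 (-(j / h))
    have e1 : um 0 (-(d / h)) (-(a / h)) * !![a, b, c; d, e, g; h, i, j] * um (-(i / h)) 0 (-(j / h)) =
        !![0, b - a * i / h, c - a * j / h; 0, e - d * i / h, g - d * j / h; h, 0, 0] := by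
      ext s t
      fin_cases s <;> fin_cases t <;> simp [um, Matrix.mul_apply, Fin.sum_univ_three] <;> field_simp <;> ring
    rw [e1]
    have hdet : (b - a * i / h) * (g - d * j / h) - (c - a * j / h) * (e - d * i / h) ≠ 0 := by
      intro h3
      apply hM
      field_simp at h3
      apply mul_left_cancel₀ hh
      linear_combination h3
    set b' := b - a * i / h
    set c' := c - a * j / h
    set e' := e - d * i / h
    set g' := g - d * j / h
    by_cases he : e' = 0
    · rw [he] at hdet ⊢
      have hb : b' ≠ 0 := by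
        intro h3
        apply hdet
        rw [h3]
        ring
      have hg : g' ≠ 0 := by
        intro h3
        apply hdet
        rw [h3]
        ring
      apply Gd.of f 0 0 0 0 (-(c' / b')) 0
      have e2 : um 0 0 0 * !![0, b', c'; 0, 0, g'; h, 0, 0] * um 0 (-(c' / b')) 0 = !![0, b', 0; 0, 0, g'; h, 0, 0] := by
        rw [um_zero, Matrix.one_mul]
        ext s t
        fin_cases s <;> fin_cases t <;> simp [um, Matrix.mul_apply, Fin.sum_univ_three]
        field_simp
        ring
      rw [e2]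
      exact gd_mono_c2 hf hb hg hh
    · apply Gd.of f (-(b' / e')) 0 0 0 (-(g' / e')) 0
      have e2 : um (-(b' / e')) 0 0 * !![0, b', c'; 0, e', g'; h, 0, 0] * um 0 (-(g' / e')) 0 =
          !![0, 0, c' - b' * g' / e'; 0, e', 0; h, 0, 0] := by
        ext s t
        fin_cases s <;> fin_cases t <;> simp [um, Matrix.mul_apply, Fin.sum_univ_three] <;> field_simp <;> ring
      rw [e2]
      exact gd_mono_w0 f _ _ _

end Cfsg.Agent.H466.T3.GG
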